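import Groth.Agent.DescLib.AmitsurAll
import Mathlib.RingTheory.Flat.Basic
import Mathlib.RingTheory.Spectrum.Prime.Chevalley

/-!
# Hilbert 90 for faithfully flat ring maps, Zariski locally on the base
-/

universe u

set_option autoImplicit false

open TensorProduct PrimeSpectrum

namespace Groth.Agent.GmH1Lib.Hilbert90

variable {R A : Type u} [CommRing R] [CommRing A] [Algebra R A]

/-- Sends `(x₀, x₁)` to coordinates `0, 1`. -/
noncomputable abbrev p01 (R A : Type u) [CommRing R] [CommRing A] [Algebra R A] :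
    A ⊗[R] A →ₐ[R] A ⊗[R] (A ⊗[R] A) :=
  Algebra.TensorProduct.map (AlgHom.id R A) Algebra.TensorProduct.includeLeft

/-- Sends `(x₀, x₁)` to coordinates `0, 2`. -/
noncomputable abbrev p02 (R A : Type u) [CommRing R] [CommRing A] [Algebra R A] :
    A ⊗[R] A →ₐ[R] A ⊗[R] (A ⊗[R] A) :=
  Algebra.TensorProduct.map (AlgHom.id R A) Algebra.TensorProduct.includeRight

/-- Sends `(x₀, x₁)` to coordinates `1, 2`. -/
noncomputable abbrev p12 (R A : Type u) [CommRing R] [CommRing A] [Algebra R A] :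
    A ⊗[R] A →ₐ[R] A ⊗[R] (A ⊗[R] A) :=
  Algebra.TensorProduct.includeRight

/-- `a ↦ a ⊗ 1 - u (1 ⊗ a)`. -/
noncomputable def φ (u : A ⊗[R] A) : A →ₗ[R] A ⊗[R] A :=
  (Algebra.TensorProduct.includeLeft : A →ₐ[R] A ⊗[R] A).toLinearMap -
    LinearMap.mulLeft R u ∘ₗ (Algebra.TensorProduct.includeRight : A →ₐ[R] A ⊗[R] A).toLinearMap

lemma φ_apply (u : A ⊗[R] A) (a : A) : φ u a = a ⊗ₜ 1 - u * (1 ⊗ₜ a) := rfl

lemma lTensor_φ (u : A ⊗[R] A) (w : A ⊗[R] A) :
    (φ u).lTensor A w = p01 R A w - p12 R A u * p02 R A w := by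
  induction w using TensorProduct.induction_on with
  | zero => simp
  | add x y hx hy => simp only [map_add, hx, hy, mul_add]; abel
  | tmul b a =>
    simp [φ_apply, tmul_sub]

/-- The twisted equalizer generates the unit ideal upstairs. -/
theorem span_eq_top [Module.FaithfullyFlat R A] (u : A ⊗[R] A) (hu : IsUnit u)
    (hc : p02 R A u = p01 R A u * p12 R A u) :
    Ideal.span ((LinearMap.ker (φ u) : Submodule R A) : Set A) = ⊤ := by
  obtain ⟨v, hv⟩ := hu.exists_left_inv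
  have hw : (φ u).lTensor A v = 0 := by
    rw [lTensor_φ, sub_eq_zero]
    have h1 : p01 R A v * p01 R A u = 1 := by rw [← map_mul, hv, map_one]
    have h2 : p02 R A v * p02 R A u = 1 := by rw [← map_mul, hv, map_one]
    calc p01 R A v = p01 R A v * (p02 R A v * p02 R A u) := by rw [h2, mul_one]
      _ = p12 R A u * p02 R A v * (p01 R A v * p01 R A u) := by rw [hc]; ring
      _ = p12 R A u * p02 R A v := by rw [h1, mul_one]
  have he : Function.Exact ((LinearMap.ker (φ u)).subtype) (φ u) := LinearMap.exact_subtype_ker_map (φ u)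
  obtain ⟨z, hz⟩ := (Module.Flat.lTensor_exact A he v).1 hw
  have h1 : ∀ z, Algebra.TensorProduct.lmul' (S := A) R ((LinearMap.ker (φ u)).subtype.lTensor A z) ∈
      Ideal.span ((LinearMap.ker (φ u) : Submodule R A) : Set A) := by
    intro z
    induction z using TensorProduct.induction_on with
    | zero => simp
    | add x y hx hy => simp only [map_add]; exact Ideal.add_mem _ hx hy
    | tmul b m =>
      simp only [LinearMap.lTensor_tmul, Submodule.coe_subtype, Algebra.TensorProduct.lmul'_apply_tmul]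
      exact Ideal.mul_mem_left _ _ (Ideal.subset_span m.2)
  refine Ideal.eq_top_of_isUnit_mem _ (h1 z) ?_
  rw [hz]
  exact (IsUnit.of_mul_eq_one _ hv).map _

/-- The zero locus of a twisted invariant element is a union of fibres. -/
theorem mem_iff_of_comap_eq (u : A ⊗[R] A) (hu : IsUnit u) {m : A} (hm : φ u m = 0)
    (q q' : PrimeSpectrum A) (hq : q.comap (algebraMap R A) = q'.comap (algebraMap R A))
    (hmq : m ∈ q.asIdeal) : m ∈ q'.asIdeal := by
  let p := q.comap (algebraMap R A)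
  let κ := p.asIdeal.ResidueField
  let L₁ := q.asIdeal.ResidueField
  let L₂ := q'.asIdeal.ResidueField
  letI : Algebra κ L₁ := (Ideal.ResidueField.map p.asIdeal q.asIdeal (algebraMap R A) rfl).toAlgebra
  letI : Algebra κ L₂ :=
    (Ideal.ResidueField.map p.asIdeal q'.asIdeal (algebraMap R A) (congrArg PrimeSpectrum.asIdeal hq)).toAlgebra
  haveI : IsScalarTower R κ L₁ := IsScalarTower.of_algebraMap_eq fun r =>
    (IsScalarTower.algebraMap_apply R A L₁ r).trans (Ideal.ResidueField.map_algebraMap _ _ _ _ r).symm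
  haveI : IsScalarTower R κ L₂ := IsScalarTower.of_algebraMap_eq fun r =>
    (IsScalarTower.algebraMap_apply R A L₂ r).trans (Ideal.ResidueField.map_algebraMap _ _ _ _ r).symm
  haveI : Nontrivial (L₁ ⊗[κ] L₂) := inferInstance
  obtain ⟨M, hM⟩ := Ideal.exists_maximal (L₁ ⊗[κ] L₂)
  let g₁ : A →ₐ[R] (L₁ ⊗[κ] L₂) ⧸ M :=
    ((Ideal.Quotient.mkₐ R M).comp ((Algebra.TensorProduct.includeLeft : L₁ →ₐ[κ] L₁ ⊗[κ] L₂).restrictScalars R)).comp
      (IsScalarTower.toAlgHom R A L₁)
  let g₂ : A →ₐ[R] (L₁ ⊗[κ] L₂) ⧸ M :=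
    ((Ideal.Quotient.mkₐ R M).comp ((Algebra.TensorProduct.includeRight : L₂ →ₐ[κ] L₁ ⊗[κ] L₂).restrictScalars R)).comp
      (IsScalarTower.toAlgHom R A L₂)
  let G : A ⊗[R] A →ₐ[R] (L₁ ⊗[κ] L₂) ⧸ M := Algebra.TensorProduct.productMap g₁ g₂
  have h0 := congrArg G (sub_eq_zero.1 ((φ_apply u m).symm.trans hm))
  rw [map_mul] at h0
  simp only [G, Algebra.TensorProduct.productMap_apply_tmul, map_one, mul_one, one_mul] at h0
  have h1 : g₁ m = 0 := by
    show Ideal.Quotient.mkₐ R M _ = 0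
    simp [L₁, Ideal.algebraMap_residueField_eq_zero.2 hmq]
  haveI := Ideal.Quotient.field M
  rw [h1, eq_comm, (hu.map G).mul_right_eq_zero] at h0
  by_contra hmq'
  have h2 : IsUnit (algebraMap A L₂ m) :=
    isUnit_iff_ne_zero.2 fun h => hmq' (Ideal.algebraMap_residueField_eq_zero.1 h)
  have h3 : IsUnit (g₂ m) :=
    (h2.map ((Algebra.TensorProduct.includeRight : L₂ →ₐ[κ] L₁ ⊗[κ] L₂).restrictScalars R)).map (Ideal.Quotient.mkₐ R M)
  exact h3.ne_zero h0

/-- Hilbert 90, Zariski locally on the base. -/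
theorem exists_local [Module.FaithfullyFlat R A] [Algebra.FinitePresentation R A] (u : A ⊗[R] A) (hu : IsUnit u)
    (hc : p02 R A u = p01 R A u * p12 R A u) (p : PrimeSpectrum R) :
    ∃ f : R, f ∉ p.asIdeal ∧ ∃ m b : A, m ⊗ₜ[R] (1 : A) = u * (1 ⊗ₜ m) ∧
      ∃ n : ℕ, m * b = algebraMap R A f ^ n := by
  obtain ⟨q, rfl⟩ := PrimeSpectrum.comap_surjective_of_faithfullyFlat (B := A) p
  obtain ⟨m, hm, hmq⟩ : ∃ m ∈ LinearMap.ker (φ u), m ∉ q.asIdeal := by
    by_contra h
    push Not at h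
    exact q.2.ne_top (top_le_iff.1 (span_eq_top u hu hc ▸ Ideal.span_le.2 h))
  have ho : IsOpen (PrimeSpectrum.comap (algebraMap R A) '' (PrimeSpectrum.basicOpen m : Set (PrimeSpectrum A))) :=
    PrimeSpectrum.isOpenMap_comap_of_hasGoingDown_of_finitePresentation _ (PrimeSpectrum.basicOpen m).2
  obtain ⟨_, ⟨f, rfl⟩, hpf, hsub⟩ :=
    PrimeSpectrum.isTopologicalBasis_basic_opens.exists_subset_of_mem_open (Set.mem_image_of_mem _ (show q ∈ PrimeSpectrum.basicOpen m from hmq)) ho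
  refine ⟨f, hpf, m, ?_⟩
  have hrad : algebraMap R A f ∈ (Ideal.span {m}).radical := by
    rw [← PrimeSpectrum.vanishingIdeal_zeroLocus_eq_radical, PrimeSpectrum.mem_vanishingIdeal]
    intro z hz
    by_contra hzf
    obtain ⟨q', hq', hqz⟩ := hsub (show z.comap (algebraMap R A) ∈ PrimeSpectrum.basicOpen f from hzf)
    exact hq' (mem_iff_of_comap_eq u hu (LinearMap.mem_ker.1 hm) z q' hqz.symm (hz (Ideal.subset_span rfl)))
  obtain ⟨n, hn⟩ := hrad
  obtain ⟨b, hb⟩ := Ideal.mem_span_singleton'.1 hn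
  exact ⟨b, sub_eq_zero.1 ((φ_apply u m).symm.trans (LinearMap.mem_ker.1 hm)), n, by rw [mul_comm, hb]⟩

end Groth.Agent.GmH1Lib.Hilbert90
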