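import Groth.Prelude.Def_EtGm

/-!
# Sections of `G_m` as units
-/

set_option autoImplicit false

universe u

open CategoryTheory CategoryTheory.Limits AlgebraicGeometry Opposite

namespace Groth.Agent.GmH1Lib

variable {X : Scheme.{u}}

/-- A section of `G_m` as a unit. -/
noncomputable def gv {W : X.Etale} (s : (EtCoh.Gm X).obj.obj (op W)) : Γ(W.left, ⊤)ˣ :=
  Additive.toMul (ULift.down s)

/-- A unit as a section of `G_m`. -/
noncomputable def gmk {W : X.Etale} (a : Γ(W.left, ⊤)ˣ) : (EtCoh.Gm X).obj.obj (op W) :=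
  ULift.up (Additive.ofMul a)

variable {W W' : X.Etale}

@[simp] theorem gv_gmk (a : Γ(W.left, ⊤)ˣ) : gv (X := X) (gmk a) = a := rfl

@[simp] theorem gmk_gv (s : (EtCoh.Gm X).obj.obj (op W)) : gmk (gv s) = s := rfl

theorem gv_add (s t : (EtCoh.Gm X).obj.obj (op W)) : gv (s + t) = gv s * gv t := rfl

theorem gv_zero : gv (0 : (EtCoh.Gm X).obj.obj (op W)) = 1 := rfl

theorem gv_neg (s : (EtCoh.Gm X).obj.obj (op W)) : gv (-s) = (gv s)⁻¹ := rfl

theorem gv_sub (s t : (EtCoh.Gm X).obj.obj (op W)) : gv (s - t) = gv s * (gv t)⁻¹ := by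
  rw [sub_eq_add_neg, gv_add, gv_neg]

theorem gv_map (m : W' ⟶ W) (s : (EtCoh.Gm X).obj.obj (op W)) :
    (gv (((EtCoh.Gm X).obj.map m.op).hom s) : Γ(W'.left, ⊤)) = m.left.appTop.hom (gv s) := rfl

theorem gv_ext {s t : (EtCoh.Gm X).obj.obj (op W)} (h : (gv s : Γ(W.left, ⊤)) = gv t) : s = t :=
  congrArg gmk (Units.ext h)

end Groth.Agent.GmH1Lib
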