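import Groth.Agent.GmH1Lib.Units
import Groth.Agent.EtFound.OpenSubterminal
import Groth.Agent.EtFound.CoprodSections
import Groth.Agent.EtLC12.EtZarCompare
import Groth.Agent.AModX.Res

/-!
# Étale sheaves on Zariski opens
-/

set_option autoImplicit false
set_option backward.isDefEq.respectTransparency false
set_option backward.isDefEq.respectTransparency.types false

universe u

open CategoryTheory CategoryTheory.Limits AlgebraicGeometry Opposite TopologicalSpace

namespace Groth.Agent.GmH1Lib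

open Groth.Agent.EtFound Groth.Agent.AModX

variable {X : Scheme.{u}}

/-- An open as an étale scheme. -/
noncomputable abbrev ZO (V : X.Opens) : X.Etale := (EtZar.zarToEt X).obj V

theorem hom_open_ext {A : X.Etale} {V : X.Opens} (a b : A ⟶ ZO V) : a = b :=
  @Subsingleton.elim _ (subsingleton_hom_ofOpen V A) a b

theorem exists_hom_inf {A : X.Etale} {V W : X.Opens} (a : A ⟶ ZO V) (b : A ⟶ ZO W) :
    Nonempty (A ⟶ ZO (V ⊓ W)) :=
  (nonempty_hom_ofOpen_iff (V ⊓ W) A).2 fun w =>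
    ⟨(nonempty_hom_ofOpen_iff V A).1 ⟨a⟩ w, (nonempty_hom_ofOpen_iff W A).1 ⟨b⟩ w⟩

/-- Restriction between opens. -/
noncomputable abbrev rmap (F : EtCoh.Ab X) {W V : X.Opens} (h : W ≤ V) :
    F.obj.obj (op (ZO V)) →+ F.obj.obj (op (ZO W)) :=
  (F.obj.map ((EtZar.zarToEt X).map (homOfLE h)).op).hom

theorem map_map (F : EtCoh.Ab X) {A B D : X.Etale} (γ : A ⟶ B) (δ : B ⟶ D) (r : F.obj.obj (op D)) :
    (F.obj.map γ.op).hom ((F.obj.map δ.op).hom r) = (F.obj.map (γ ≫ δ).op).hom r := by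
  rw [op_comp, Functor.map_comp]
  rfl

theorem map_open (F : EtCoh.Ab X) {A : X.Etale} {W V : X.Opens} (γ : A ⟶ ZO W) (δ : A ⟶ ZO V) (h : W ≤ V)
    (r : F.obj.obj (op (ZO V))) : (F.obj.map γ.op).hom (rmap F h r) = (F.obj.map δ.op).hom r :=
  (map_map F _ _ r).trans (congrArg (fun e => (F.obj.map (Quiver.Hom.op e)).hom r) (hom_open_ext _ _))

theorem rmap_rmap (F : EtCoh.Ab X) {W V T : X.Opens} (h : W ≤ V) (h' : V ≤ T) (r : F.obj.obj (op (ZO T))) :
    rmap F h (rmap F h' r) = rmap F (h.trans h') r :=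
  map_open F _ _ h' r

theorem rmap_nat {F G : EtCoh.Ab X} (φ : F ⟶ G) {W V : X.Opens} (h : W ≤ V) (r : F.obj.obj (op (ZO V))) :
    (φ.hom.app (op (ZO W))).hom (rmap F h r) = rmap G h ((φ.hom.app (op (ZO V))).hom r) :=
  NatTrans.naturality_apply φ.hom _ r

/-- Sections over a Zariski cover glue. -/
theorem exists_glue (F : EtCoh.Ab X) {ι : Type u} (V : ι → X.Opens) (hcov : ∀ x, ∃ a, x ∈ V a)
    (s : ∀ a, F.obj.obj (op (ZO (V a))))
    (h : ∀ a b, rmap F (inf_le_left : V a ⊓ V b ≤ V a) (s a) = rmap F (inf_le_right : V a ⊓ V b ≤ V b) (s b)) :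
    ∃ t : F.obj.obj (op (EtCoh.top X)), ∀ a, (F.obj.map ((topIsTerminal X).from (ZO (V a))).op).hom t = s a := by
  have hc : Presieve.Arrows.Compatible (F.obj ⋙ forget AddCommGrpCat.{u + 1})
      (fun a => (topIsTerminal X).from (ZO (V a))) s := by
    intro a b A α β _
    obtain ⟨k⟩ := exists_hom_inf α β
    show (F.obj.map α.op).hom (s a) = (F.obj.map β.op).hom (s b)
    rw [← map_open F k α inf_le_left, ← map_open F k β inf_le_right, h a b]
  obtain ⟨t, ht, -⟩ := (Presieve.isSheafFor_arrows_iff _ _).1 (isSheafFor_of_covers F (fun a => ZO (V a))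
    (fun a => (topIsTerminal X).from (ZO (V a))) fun x => by
      obtain ⟨a, ha⟩ := hcov x
      exact ⟨a, ⟨x, ha⟩, apply_hom ((topIsTerminal X).from (ZO (V a))) ⟨x, ha⟩⟩) s hc
  exact ⟨t, ht⟩

theorem ext_cover (F : EtCoh.Ab X) {ι : Type u} (V : ι → X.Opens) (hcov : ∀ x, ∃ a, x ∈ V a)
    (s t : F.obj.obj (op (EtCoh.top X)))
    (h : ∀ a, (F.obj.map ((topIsTerminal X).from (ZO (V a))).op).hom s =
      (F.obj.map ((topIsTerminal X).from (ZO (V a))).op).hom t) : s = t :=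
  (isSheafFor_of_covers F (fun a => ZO (V a)) (fun a => (topIsTerminal X).from (ZO (V a))) fun x => by
    obtain ⟨a, ha⟩ := hcov x
    exact ⟨a, ⟨x, ha⟩, apply_hom ((topIsTerminal X).from (ZO (V a))) ⟨x, ha⟩⟩).isSeparatedFor.ext
      fun _ _ ha => by
        obtain ⟨a⟩ := ha
        exact h a

/-- A unit on an open, from a section of `G_m`. -/
noncomputable def uval {V : X.Opens} (s : (EtCoh.Gm X).obj.obj (op (ZO V))) : Γ(X, V)ˣ :=
  Units.map V.topIso.hom.hom.toMonoidHom (gv s)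

/-- The section of `G_m` given by a unit on an open. -/
noncomputable def umk {V : X.Opens} (a : Γ(X, V)ˣ) : (EtCoh.Gm X).obj.obj (op (ZO V)) :=
  gmk (Units.map V.topIso.inv.hom.toMonoidHom a)

theorem uval_umk {V : X.Opens} (a : Γ(X, V)ˣ) : uval (umk a) = a :=
  Units.ext (V.topIso.inv_hom_id_apply (a : Γ(X, V)))

theorem umk_uval {V : X.Opens} (s : (EtCoh.Gm X).obj.obj (op (ZO V))) : umk (uval s) = s :=
  gv_ext (V.topIso.hom_inv_id_apply (gv s).val)

theorem uval_add {V : X.Opens} (s t : (EtCoh.Gm X).obj.obj (op (ZO V))) : uval (s + t) = uval s * uval t := by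
  rw [uval, gv_add, map_mul]
  rfl

theorem umk_mul {V : X.Opens} (a b : Γ(X, V)ˣ) : (umk (a * b) : (EtCoh.Gm X).obj.obj (op (ZO V))) = umk a + umk b := by
  rw [← umk_uval (umk a + umk b), uval_add, uval_umk, uval_umk]

theorem uval_rmap {W V : X.Opens} (h : W ≤ V) (s : (EtCoh.Gm X).obj.obj (op (ZO V))) :
    (uval (rmap (EtCoh.Gm X) h s) : Γ(X, W)) = resR h (uval s : Γ(X, V)) := by
  have e : (X.homOfLE h).appTop ≫ W.topIso.hom = V.topIso.hom ≫ X.presheaf.map (homOfLE h).op := by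
    simp only [Scheme.Opens.topIso_hom, Scheme.Hom.appTop, Scheme.homOfLE_app]
    exact (X.presheaf.map_comp _ _).symm.trans ((congrArg X.presheaf.map (Subsingleton.elim _ _)).trans (X.presheaf.map_comp _ _))
  exact congrArg (fun φ : Γ(V.toScheme, ⊤) ⟶ Γ(X, W) => φ.hom (gv s).val) e

theorem rmap_umk {W V : X.Opens} (h : W ≤ V) (a : Γ(X, V)ˣ) (b : Γ(X, W)ˣ) (hab : resR h (a : Γ(X, V)) = b) :
    rmap (EtCoh.Gm X) h (umk a) = umk b := by
  rw [← umk_uval (rmap (EtCoh.Gm X) h (umk a))]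
  exact congrArg umk (Units.ext (by rw [uval_rmap, uval_umk]; exact hab))

end Groth.Agent.GmH1Lib
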