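import Groth.Agent.GmH1Lib.LocalLift
import Groth.Agent.GmH1Lib.Zar
import Groth.Agent.Adeq2Lib.ZarCompare
import Groth.Agent.H23.CocycleMod
import Groth.Agent.InvUfdLib.Semilocal

/-!
# First cohomology of `G_m` and invertible modules
-/

set_option autoImplicit false
set_option backward.isDefEq.respectTransparency false
set_option backward.isDefEq.respectTransparency.types false

universe u

open CategoryTheory CategoryTheory.Limits AlgebraicGeometry Opposite TopologicalSpace

namespace Groth.Agent.GmH1Lib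

open Groth.Agent.EtFound Groth.Agent.AModX Groth.Agent.InvX Groth.Agent.Adeq2Lib Groth.Agent.EtLC12

variable {X : Scheme.{u}}

theorem subsingleton_iff_surjective {I Q : EtCoh.Ab X} (f : EtCoh.Gm X ⟶ I) (g : I ⟶ Q) (w : f ≫ g = 0)
    (hS : (ShortComplex.mk f g w).ShortExact) [Injective I] :
    Subsingleton (EtCoh.H X (EtCoh.Gm X) 1) ↔ Function.Surjective (g.hom.app (op (EtCoh.top X))).hom := by
  haveI : Subsingleton (Sheaf.H (ShortComplex.mk f g w).X₂ 1) :=
    subsingleton_of_forall_eq 0 fun x => Abelian.Ext.eq_zero_of_injective x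
  obtain ⟨φ, hφ, hk⟩ := ZarCmp.h1_pres (topIsTerminal X) _ hS
  constructor
  · intro h y
    exact (hk y).1 (@Subsingleton.elim _ h _ _)
  · intro h
    refine subsingleton_of_forall_eq 0 fun z => ?_
    obtain ⟨y, rfl⟩ := hφ z
    exact (hk y).2 (h y)

theorem isFrame_one : IsFrame (M := Coh.structureModule X) (U := ⊤) (1 : Γ(X, ⊤)) := by
  intro V h
  have e : (fun r : Γ(X, V) => r • res (Coh.structureModule X) h (1 : Γ(X, ⊤))) = fun r => r := funext fun r => by
    show r * resR h (1 : Γ(X, ⊤)) = r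
    rw [map_one, mul_one]
  exact (congrArg Function.Bijective e).mpr Function.bijective_id

theorem isFrame_app {M N : X.Modules} (φ : M ≅ N) {U : X.Opens} {e : Γ(M, U)} (he : IsFrame e) :
    IsFrame (φ.hom.app U e) := fun V h => by
  have hb : Function.Bijective (φ.hom.app V) :=
    (ConcreteCategory.isIso_iff_bijective _).1 (Scheme.Modules.Hom.isIso_iff_isIso_app.1 inferInstance V)
  have e' : (fun r : Γ(X, V) => r • res N h (φ.hom.app U e)) =
      φ.hom.app V ∘ fun r : Γ(X, V) => r • res M h e := funext fun r => by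
    rw [Function.comp_apply, Scheme.Modules.Hom.app_smul, app_res]
  exact (congrArg Function.Bijective e').mpr (hb.comp (he V h))

theorem exists_unit_coord {M : X.Modules} {U : X.Opens} {e e' : Γ(M, U)} (he : IsFrame e) (he' : IsFrame e') :
    ∃ a : Γ(X, U)ˣ, e' = (a : Γ(X, U)) • e := by
  obtain ⟨a, ha⟩ := he.exists_coord le_rfl e'
  obtain ⟨b, hb⟩ := he'.exists_coord le_rfl e
  rw [res_self] at ha hb
  have h1 : b * a = 1 := he.coord_unique le_rfl (by
    rw [res_self, one_smul, mul_smul, ← ha, ← hb])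
  exact ⟨⟨a, b, by rw [mul_comm, h1], h1⟩, ha⟩

section

variable {I Q : EtCoh.Ab X} (f : EtCoh.Gm X ⟶ I) (g : I ⟶ Q) (w : f ≫ g = 0)
  (hS : (ShortComplex.mk f g w).ShortExact)

include hS in
theorem injective_f {W : X.Etale} : Function.Injective (f.hom.app (op W)).hom :=
  haveI : Mono f := hS.mono_f
  SiteBase.sheaf_app_injective f W

include hS in
theorem surjective_of_pic_trivial
    (hpic : ∀ L : X.Modules, PicF.IsInvertible L → Nonempty (L ≅ Coh.structureModule X)) :
    Function.Surjective (g.hom.app (op (EtCoh.top X))).hom := by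
  intro q
  choose V hxV s hs using exists_local_lift f g w hS q
  have hd : ∀ a b, ∃ c : (EtCoh.Gm X).obj.obj (op (ZO (V a ⊓ V b))),
      (f.hom.app (op (ZO (V a ⊓ V b)))).hom c = rmap I inf_le_right (s b) - rmap I inf_le_left (s a) := by
    intro a b
    apply exists_preimage f g w hS
    rw [map_sub, rmap_nat, rmap_nat, hs, hs, sub_eq_zero]
    refine (map_map Q _ _ q).trans (Eq.trans ?_ (map_map Q _ _ q).symm)
    exact congrArg (fun e => (Q.obj.map (Quiver.Hom.op e)).hom q) ((topIsTerminal X).hom_ext _ _)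
  choose c hc using hd
  have hcres : ∀ a b (W : X.Opens) (ha : W ≤ V a) (hb : W ≤ V b),
      (f.hom.app (op (ZO W))).hom (rmap (EtCoh.Gm X) (le_inf ha hb) (c a b)) = rmap I hb (s b) - rmap I ha (s a) := by
    intro a b W ha hb
    rw [rmap_nat, hc, map_sub, rmap_rmap, rmap_rmap]
  let t : H23.CocycleMod.Cocycle V :=
    { g := fun a b => uval (c a b)
      trans := fun i j l W hi hj hl => by
        rw [← uval_rmap, ← uval_rmap, ← uval_rmap, ← Units.val_mul, ← uval_add]
        refine congrArg (fun x => ((uval x : Γ(X, W)ˣ) : Γ(X, W))) (injective_f f g w hS ?_)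
        rw [map_add, hcres i l W hi hl, hcres j l W hj hl, hcres i j W hi hj]
        abel }
  have hVtop : iSup V = ⊤ := top_le_iff.1 fun x _ => Opens.mem_iSup.2 ⟨x, hxV x⟩
  obtain ⟨e⟩ := hpic _ (H23.CocycleMod.isInvertible t hVtop)
  have hG : IsFrame (e.inv.app ⊤ (1 : Γ(X, ⊤))) := isFrame_app e.symm isFrame_one
  have hco : ∀ a, ∃ u : Γ(X, V a)ˣ,
      res (H23.CocycleMod.mod t) le_top (e.inv.app ⊤ (1 : Γ(X, ⊤))) = (u : Γ(X, V a)) • H23.CocycleMod.frame t a :=
    fun a => exists_unit_coord (H23.CocycleMod.isFrame_frame t a) (hG.res le_top)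
  choose u hu using hco
  have hrel : ∀ a b, resR (inf_le_right : V a ⊓ V b ≤ V b) (u b : Γ(X, V b)) =
      resR (inf_le_left : V a ⊓ V b ≤ V a) (u a : Γ(X, V a)) * (t.g a b : Γ(X, V a ⊓ V b)) := by
    intro a b
    refine ((H23.CocycleMod.isFrame_frame t b).coord_unique inf_le_right ?_)
    rw [← res_smul, ← hu, mul_smul, ← H23.CocycleMod.res_frame, ← res_smul, ← hu, res_res, res_res]
  let s' : ∀ a, I.obj.obj (op (ZO (V a))) := fun a => s a - (f.hom.app (op (ZO (V a)))).hom (umk (u a))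
  obtain ⟨y, hy⟩ := exists_glue I V (fun x => ⟨x, hxV x⟩) s' fun a b => by
    refine (sub_eq_zero.1 ?_).symm
    simp only [s', map_sub]
    rw [← rmap_nat, ← rmap_nat]
    have h1 := hc a b
    rw [← umk_uval (c a b)] at h1
    rw [rmap_umk inf_le_right (u b) (Units.map (resR (inf_le_right : V a ⊓ V b ≤ V b)).toMonoidHom (u b)) rfl,
      rmap_umk inf_le_left (u a) (Units.map (resR (inf_le_left : V a ⊓ V b ≤ V a)).toMonoidHom (u a)) rfl,
      show Units.map (resR (inf_le_right : V a ⊓ V b ≤ V b)).toMonoidHom (u b) =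
        Units.map (resR (inf_le_left : V a ⊓ V b ≤ V a)).toMonoidHom (u a) * uval (c a b) from Units.ext (hrel a b),
      umk_mul, map_add, h1]
    abel
  refine ⟨y, ext_cover Q V (fun x => ⟨x, hxV x⟩) _ _ fun a => ?_⟩
  refine (NatTrans.naturality_apply g.hom _ y).symm.trans ?_
  refine (congrArg (g.hom.app (op (ZO (V a)))).hom (hy a)).trans ?_
  show (g.hom.app (op (ZO (V a)))).hom (s a - _) = _
  rw [map_sub]
  have h0 : (g.hom.app (op (ZO (V a)))).hom ((f.hom.app (op (ZO (V a)))).hom (umk (u a))) = 0 :=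
    congrArg (fun φ : EtCoh.Gm X ⟶ Q => (φ.hom.app (op (ZO (V a)))).hom (umk (u a))) w
  rw [h0, sub_zero]
  exact hs a

/-- A cocycle of units on a Zariski cover is a coboundary in an injective sheaf. -/
theorem exists_split [Injective I] {ι : Type u} (V : ι → X.Opens)
    (d : ∀ a b, (EtCoh.Gm X).obj.obj (op (ZO (V a ⊓ V b))))
    (hd : ∀ a b l (W : X.Opens) (ha : W ≤ V a) (hb : W ≤ V b) (hl : W ≤ V l),
      rmap (EtCoh.Gm X) (le_inf ha hl) (d a l) =
        rmap (EtCoh.Gm X) (le_inf hb hl) (d b l) + rmap (EtCoh.Gm X) (le_inf ha hb) (d a b)) :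
    ∃ r : ∀ a, I.obj.obj (op (ZO (V a))), ∀ a b,
      rmap I inf_le_right (r b) - rmap I inf_le_left (r a) = (f.hom.app (op (ZO (V a ⊓ V b)))).hom (d a b) := by
  haveI : LocallySmall.{u + 1} X.Etale := ⟨fun _ _ => inferInstance⟩
  haveI : HasFiniteProducts (Over (EtCoh.top X)) := hasFiniteProducts_of_has_binary_and_terminal
  haveI : Injective I.obj :=
    Injective.injective_of_adjoint (sheafificationAdjunction X.smallEtaleTopology AddCommGrpCat.{u + 1}) I
  let Uf : ULift.{u + 1} ι → Over (EtCoh.top X) := fun a => Over.mk ((topIsTerminal X).from (ZO (V a.down)))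
  let D : ∀ (A : X.Etale) (a b : ι) (_ : A ⟶ ZO (V a)) (_ : A ⟶ ZO (V b)), I.obj.obj (op A) :=
    fun A a b α β => (I.obj.map (exists_hom_inf α β).some.op).hom ((f.hom.app (op (ZO (V a ⊓ V b)))).hom (d a b))
  have hD : ∀ (A : X.Etale) (a b : ι) (α : A ⟶ ZO (V a)) (β : A ⟶ ZO (V b)) (k : A ⟶ ZO (V a ⊓ V b)),
      (I.obj.map k.op).hom ((f.hom.app (op (ZO (V a ⊓ V b)))).hom (d a b)) = D A a b α β :=
    fun A a b α β k => congrArg (fun e => (I.obj.map (Quiver.Hom.op e)).hom
      ((f.hom.app (op (ZO (V a ⊓ V b)))).hom (d a b))) (hom_open_ext _ _)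
  obtain ⟨x, hx⟩ := CechInjGen.exists_cev Uf I.obj (n := 1) fun i =>
    D _ (i 0).down (i 1).down (Pi.π (fun k => Uf (i k)) 0).left (Pi.π (fun k => Uf (i k)) 1).left
  have hdx : ((EtCech.cechComplex Uf I.obj).d 1 2).hom x = 0 := CechInjGen.cev_ext Uf I.obj fun i => by
    rw [CechInjGen.cev_d, map_zero]
    let p : ∀ k, (∏ᶜ fun k => Uf (i k)).left ⟶ ZO (V (i k).down) := fun k => (Pi.π (fun k => Uf (i k)) k).left
    obtain ⟨q01⟩ := exists_hom_inf (p 0) (p 1)
    obtain ⟨k3⟩ := exists_hom_inf q01 (p 2)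
    have hterm : ∀ j : Fin 3, (I.obj.map (CechInjGen.tmap Uf i j).left.op).hom
        (CechInjGen.cev Uf I.obj 1 (i ∘ j.succAbove) x) =
        D _ (i (j.succAbove 0)).down (i (j.succAbove 1)).down (p _) (p _) := fun j => by
      rw [hx]
      refine (map_map I _ _ _).trans ?_
      exact hD _ _ _ (p _) (p _) _
    simp only [hterm]
    erw [Fin.sum_univ_three]
    have hkey : ∀ (a b : ι) (h : (V (i 0).down ⊓ V (i 1).down) ⊓ V (i 2).down ≤ V a ⊓ V b)
        (α : (∏ᶜ fun k => Uf (i k)).left ⟶ ZO (V a)) (β : (∏ᶜ fun k => Uf (i k)).left ⟶ ZO (V b)),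
        D _ a b α β = (I.obj.map k3.op).hom ((f.hom.app (op (ZO _))).hom (rmap (EtCoh.Gm X) h (d a b))) := by
      intro a b h α β
      rw [rmap_nat]
      exact ((map_map I _ _ _).trans (hD _ _ _ α β _)).symm
    show (-1 : ℤ) ^ 0 • D _ (i 1).down (i 2).down (p 1) (p 2) + (-1 : ℤ) ^ 1 • D _ (i 0).down (i 2).down (p 0) (p 2) +
      (-1 : ℤ) ^ 2 • D _ (i 0).down (i 1).down (p 0) (p 1) = 0
    rw [hkey _ _ (le_inf (inf_le_left.trans inf_le_right) inf_le_right) (p 1) (p 2),
      hkey _ _ (le_inf (inf_le_left.trans inf_le_left) inf_le_right) (p 0) (p 2),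
      hkey _ _ inf_le_left (p 0) (p 1), hd (i 0).down (i 1).down (i 2).down ((V (i 0).down ⊓ V (i 1).down) ⊓ V (i 2).down)
        (inf_le_left.trans inf_le_left) (inf_le_left.trans inf_le_right) inf_le_right, map_add, map_add]
    simp
  have hE := CechInjGen.exactAt_cech_injective Uf I.obj 0
  rw [HomologicalComplex.exactAt_iff' _ 0 1 2 (by simp) (by simp), ShortComplex.ab_exact_iff] at hE
  obtain ⟨y, hy⟩ := hE x hdx
  let one : ∀ a : ι, ZO (V a) ⟶ (∏ᶜ fun _ : Fin 1 => Uf ⟨a⟩).left := fun a =>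
    (Pi.lift fun _ => 𝟙 (Uf ⟨a⟩) : Uf ⟨a⟩ ⟶ ∏ᶜ fun _ : Fin 1 => Uf ⟨a⟩).left
  let r : ∀ a, I.obj.obj (op (ZO (V a))) := fun a =>
    (I.obj.map (one a).op).hom (CechInjGen.cev Uf I.obj 0 (fun _ => ⟨a⟩) y)
  have hgen : ∀ (j : Fin 1 → ULift.{u + 1} ι) (a : ι) (_ : j = fun _ => ⟨a⟩) {A : X.Etale}
      (γ : A ⟶ (∏ᶜ fun k => Uf (j k)).left) (α : A ⟶ ZO (V a)),
      (I.obj.map γ.op).hom (CechInjGen.cev Uf I.obj 0 j y) = (I.obj.map α.op).hom (r a) := by
    intro j a hj A γ α
    subst hj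
    refine Eq.trans ?_ (map_map I α (one a) _).symm
    have hp : (Pi.π (fun _ : Fin 1 => Uf ⟨a⟩) 0) ≫ (Pi.lift fun _ => 𝟙 (Uf ⟨a⟩)) = 𝟙 _ :=
      Pi.hom_ext _ _ fun k => by
        obtain rfl := Fin.fin_one_eq_zero k
        simp
    have hiso : γ = α ≫ one a := by
      have h1 := congrArg (fun m => γ ≫ m) (congrArg Over.Hom.left hp)
      refine ((Category.comp_id _).symm.trans h1.symm).trans ?_
      show γ ≫ (Pi.π (fun _ : Fin 1 => Uf ⟨a⟩) 0).left ≫ one a = _
      rw [← Category.assoc]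
      exact congrArg (· ≫ one a) (hom_open_ext _ _)
    rw [hiso]
  refine ⟨r, fun a b => ?_⟩
  let i : Fin 2 → ULift.{u + 1} ι := ![⟨a⟩, ⟨b⟩]
  let k : ZO (V a ⊓ V b) ⟶ (∏ᶜ fun k => Uf (i k)).left :=
    (Pi.lift (Fin.cases (Over.homMk ((EtZar.zarToEt X).map (homOfLE inf_le_left)) ((topIsTerminal X).hom_ext _ _))
      (Fin.cases (Over.homMk ((EtZar.zarToEt X).map (homOfLE inf_le_right)) ((topIsTerminal X).hom_ext _ _))
        fun l => l.elim0)) : Over.mk ((topIsTerminal X).from (ZO (V a ⊓ V b))) ⟶ ∏ᶜ fun k => Uf (i k)).left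
  have h1 := congrArg (fun z => (I.obj.map k.op).hom (CechInjGen.cev Uf I.obj 1 i z)) hy
  simp only [hx] at h1
  have h2 : (I.obj.map k.op).hom (CechInjGen.cev Uf I.obj 1 i (((EtCech.cechComplex Uf I.obj).d 0 1).hom y)) =
      rmap I inf_le_right (r b) - rmap I inf_le_left (r a) := by
    rw [CechInjGen.cev_d, map_sum]
    erw [Fin.sum_univ_two]
    rw [map_zsmul, map_zsmul, map_map, map_map]
    erw [hgen (i ∘ (0 : Fin 2).succAbove) b (funext fun l => by obtain rfl := Fin.fin_one_eq_zero l; rfl) _ ((EtZar.zarToEt X).map (homOfLE inf_le_right)),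
      hgen (i ∘ (1 : Fin 2).succAbove) a (funext fun l => by obtain rfl := Fin.fin_one_eq_zero l; rfl) _ ((EtZar.zarToEt X).map (homOfLE inf_le_left))]
    simp
    abel
  refine h2.symm.trans (h1.trans ?_)
  refine (map_map I _ _ _).trans ?_
  refine Eq.trans (congrArg (fun e => (I.obj.map (Quiver.Hom.op e)).hom _) (hom_open_ext _ (𝟙 _))) ?_
  exact ConcreteCategory.congr_hom (I.obj.map_id _) _

include hS in
theorem trivial_of_surjective [Injective I] (hsurj : Function.Surjective (g.hom.app (op (EtCoh.top X))).hom)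
    (L : X.Modules) (hL : PicF.IsInvertible L) : Nonempty (L ≅ Coh.structureModule X) := by
  choose V hxV e he using exists_frame hL
  have hcov : ∀ x, ∃ a, x ∈ V a := fun x => ⟨x, hxV x⟩
  have hd : ∀ a b, ∃ u : Γ(X, V a ⊓ V b)ˣ,
      res L inf_le_left (e a) = (u : Γ(X, V a ⊓ V b)) • res L (inf_le_right : V a ⊓ V b ≤ V b) (e b) := fun a b =>
    exists_unit_coord ((he b).res inf_le_right) ((he a).res inf_le_left)
  choose h hh using hd
  have hcy : ∀ a b l (W : X.Opens) (ha : W ≤ V a) (hb : W ≤ V b) (hl : W ≤ V l),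
      resR (le_inf ha hl) (h a l : Γ(X, V a ⊓ V l)) =
        resR (le_inf hb hl) (h b l : Γ(X, V b ⊓ V l)) * resR (le_inf ha hb) (h a b : Γ(X, V a ⊓ V b)) := by
    intro a b l W ha hb hl
    refine (he l).coord_unique hl ?_
    have key : ∀ a b (ha : W ≤ V a) (hb : W ≤ V b),
        res L ha (e a) = resR (le_inf ha hb) (h a b : Γ(X, V a ⊓ V b)) • res L hb (e b) := fun a b ha hb => by
      have := congrArg (res L (le_inf ha hb)) (hh a b)
      rw [res_smul, res_res, res_res] at this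
      exact this
    rw [← key a l ha hl, mul_comm, mul_smul, ← key b l hb hl, ← key a b ha hb]
  let d : ∀ a b, (EtCoh.Gm X).obj.obj (op (ZO (V a ⊓ V b))) := fun a b => umk (h a b)
  have hdc : ∀ a b l (W : X.Opens) (ha : W ≤ V a) (hb : W ≤ V b) (hl : W ≤ V l),
      rmap (EtCoh.Gm X) (le_inf ha hl) (d a l) =
        rmap (EtCoh.Gm X) (le_inf hb hl) (d b l) + rmap (EtCoh.Gm X) (le_inf ha hb) (d a b) := by
    intro a b l W ha hb hl
    simp only [d]
    rw [rmap_umk (le_inf ha hl) (h a l) (Units.map (resR (le_inf ha hl)).toMonoidHom (h a l)) rfl,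
      rmap_umk (le_inf hb hl) (h b l) (Units.map (resR (le_inf hb hl)).toMonoidHom (h b l)) rfl,
      rmap_umk (le_inf ha hb) (h a b) (Units.map (resR (le_inf ha hb)).toMonoidHom (h a b)) rfl, ← umk_mul]
    exact congrArg umk (Units.ext (hcy a b l W ha hb hl))
  obtain ⟨r, hr⟩ := exists_split f V d hdc
  have hgr : ∀ {W : X.Etale} (z : (EtCoh.Gm X).obj.obj (op W)),
      (g.hom.app (op W)).hom ((f.hom.app (op W)).hom z) = 0 := fun {W} z =>
    congrArg (fun φ : EtCoh.Gm X ⟶ Q => (φ.hom.app (op W)).hom z) w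
  obtain ⟨q, hq⟩ := exists_glue Q V hcov (fun a => (g.hom.app (op (ZO (V a)))).hom (r a)) fun a b => by
    rw [← rmap_nat, ← rmap_nat, eq_comm, ← sub_eq_zero, ← map_sub, hr, hgr]
  obtain ⟨y, hy⟩ := hsurj q
  have hw : ∀ a, ∃ u : (EtCoh.Gm X).obj.obj (op (ZO (V a))),
      (f.hom.app (op (ZO (V a)))).hom u = r a - (I.obj.map ((topIsTerminal X).from (ZO (V a))).op).hom y := by
    intro a
    apply exists_preimage f g w hS
    rw [map_sub, sub_eq_zero]
    refine Eq.trans ?_ (NatTrans.naturality_apply g.hom _ y).symm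
    exact (hq a).symm.trans (congrArg _ hy.symm)
  choose u hu using hw
  have hrel : ∀ a b, resR (inf_le_right : V a ⊓ V b ≤ V b) (uval (u b) : Γ(X, V b)) =
      (h a b : Γ(X, V a ⊓ V b)) * resR (inf_le_left : V a ⊓ V b ≤ V a) (uval (u a) : Γ(X, V a)) := by
    intro a b
    rw [← uval_rmap, ← uval_rmap]
    conv_rhs => rw [← uval_umk (h a b), ← Units.val_mul, ← uval_add]
    refine congrArg (fun x => ((uval x : Γ(X, V a ⊓ V b)ˣ) : Γ(X, V a ⊓ V b))) (injective_f f g w hS ?_)
    rw [map_add, ← hr a b, rmap_nat, rmap_nat, hu, hu, map_sub, map_sub, map_map, map_map]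
    rw [show (EtZar.zarToEt X).map (homOfLE (inf_le_right : V a ⊓ V b ≤ V b)) ≫ (topIsTerminal X).from (ZO (V b)) =
      (EtZar.zarToEt X).map (homOfLE (inf_le_left : V a ⊓ V b ≤ V a)) ≫ (topIsTerminal X).from (ZO (V a))
      from (topIsTerminal X).hom_ext _ _]
    abel
  obtain ⟨G, hG, -⟩ := existsUnique_glue (M := L) (V := ⊤) V (fun _ => le_top) (fun p _ => hcov p)
    (fun a => (uval (u a) : Γ(X, V a)) • e a) fun a b => by
      rw [res_smul, res_smul, hh a b, hrel a b, ← mul_smul, mul_comm]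
  have hfr : IsFrame G := by
    intro W _
    constructor
    · intro p p' hp
      refine AModX.eq_of_locally (M := Coh.structureModule X) p p' fun x hx => ?_
      obtain ⟨a, ha⟩ := hcov x
      refine ⟨W ⊓ V a, inf_le_left, ⟨hx, ha⟩, ?_⟩
      show resR _ p = resR _ p'
      refine (((he a).isUnit_smul (uval (u a)).isUnit).coord_unique inf_le_right ?_)
      have h1 := congrArg (res L (inf_le_left : W ⊓ V a ≤ W)) hp
      simp only [res_smul, res_res] at h1
      rw [← hG a, res_res]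
      exact h1
    · intro z
      have hc : ∀ a, ∃ p : Γ(X, W ⊓ V a), res L (inf_le_left : W ⊓ V a ≤ W) z =
          p • res L (inf_le_left.trans le_top : W ⊓ V a ≤ ⊤) G := fun a => by
        obtain ⟨p, hp⟩ := ((he a).isUnit_smul (uval (u a)).isUnit).exists_coord inf_le_right
          (res L (inf_le_left : W ⊓ V a ≤ W) z)
        rw [← hG a, res_res] at hp
        exact ⟨p, hp⟩
      choose p hp using hc
      have hu' : ∀ a, IsFrame (res L (le_top : V a ≤ ⊤) G) := fun a => by
        rw [hG a]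
        exact (he a).isUnit_smul (uval (u a)).isUnit
      obtain ⟨P, hP, -⟩ := existsUnique_glue (M := Coh.structureModule X) (V := W) (fun a => W ⊓ V a)
        (fun _ => inf_le_left) (fun x hx => (hcov x).imp fun a ha => ⟨hx, ha⟩) p fun a b => by
          show resR _ (p a) = resR _ (p b)
          refine (hu' a).coord_unique (inf_le_left.trans inf_le_right) ?_
          have h1 := congrArg (res L (inf_le_left : (W ⊓ V a) ⊓ (W ⊓ V b) ≤ W ⊓ V a)) (hp a)
          have h2 := congrArg (res L (inf_le_right : (W ⊓ V a) ⊓ (W ⊓ V b) ≤ W ⊓ V b)) (hp b)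
          simp only [res_smul, res_res] at h1 h2 ⊢
          exact h1.symm.trans h2
      refine ⟨P, AModX.eq_of_locally _ _ fun x hx => ?_⟩
      obtain ⟨a, ha⟩ := hcov x
      refine ⟨W ⊓ V a, inf_le_left, ⟨hx, ha⟩, ?_⟩
      rw [res_smul, res_res, hp a]
      exact congrArg (· • _) (hP a)
  exact InvUfdLib.nonempty_iso_of_frame hfr

end

/-- `H¹(X, G_m) = 0` iff all invertible modules are trivial. -/
theorem subsingleton_H1_Gm_iff (X : Scheme.{u}) :
    Subsingleton (EtCoh.H X (EtCoh.Gm X) 1) ↔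
      ∀ L : X.Modules, PicF.IsInvertible L → Nonempty (L ≅ Coh.structureModule X) := by
  let P := Classical.arbitrary (InjectivePresentation (EtCoh.Gm X))
  haveI : Injective P.shortComplex.X₂ := P.injective
  have hS : (ShortComplex.mk P.shortComplex.f P.shortComplex.g P.shortComplex.zero).ShortExact :=
    P.shortExact_shortComplex
  rw [subsingleton_iff_surjective _ _ _ hS]
  exact ⟨fun h L hL => trivial_of_surjective _ _ _ hS h L hL, surjective_of_pic_trivial _ _ _ hS⟩

end Groth.Agent.GmH1Lib
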