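import Groth.Agent.GmH1Lib.Units
import Groth.Agent.GmH1Lib.Hilbert90
import Groth.Agent.EtLC12.GaAmitsur

/-!
# The cocycle of a local lifting
-/

set_option autoImplicit false
set_option backward.isDefEq.respectTransparency false
set_option backward.isDefEq.respectTransparency.types false

universe u

open CategoryTheory CategoryTheory.Limits AlgebraicGeometry Opposite TensorProduct

namespace Groth.Agent.GmH1Lib.Cocycle

open Groth.Agent.EtFound Groth.Agent.DescLib Groth.Agent.EtLC12.GaAmitsur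

variable {X : Scheme.{u}} {I : EtCoh.Ab X} (f : EtCoh.Gm X ⟶ I) [Mono f]

variable {U : X.Etale} [IsAffine U.left] (Y : Over U) [IsAffine Y.left.left] [HasFiniteProducts (Over U)]

/-- The value at two points of `Y`. -/
noncomputable def ev {W : Over U} (a b : W ⟶ Y) : (Sec Y ⊗[Γ(U.left, ⊤)] Sec Y) →ₐ[Γ(U.left, ⊤)] Sec W :=
  Algebra.TensorProduct.productMap (secMap a) (secMap b)

lemma ev_eq_Φ {W : Over U} (a b : W ⟶ Y)
    (x : AmitsurAll.T Γ(U.left, ⊤) (Sec Y) 1) :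
    ev Y a b x = secMap (Pi.lift ![a, b]) (Φ Y 1 x) := by
  let e : AmitsurAll.T Γ(U.left, ⊤) (Sec Y) 1 →ₐ[Γ(U.left, ⊤)] Sec W := ev Y a b
  suffices h : e = (secMap (Pi.lift ![a, b])).comp (Φ Y 1) from DFunLike.congr_fun h x
  refine AmitsurAll.hom_ext fun k c => ?_
  show _ = secMap _ (Φ Y 1 _)
  rw [Φ_incl, ← secMap_comp, Pi.lift_π]
  induction k using Fin.cases with
  | zero =>
    show ev Y a b (c ⊗ₜ 1) = _
    simp [ev]
  | succ k =>
    obtain rfl := Fin.fin_one_eq_zero k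
    show ev Y a b (1 ⊗ₜ c) = _
    simp [ev]

variable (t : I.obj.obj (op Y.left))

/-- The difference of a section at two points. -/
noncomputable def diff {W : Over U} (a b : W ⟶ Y) : I.obj.obj (op W.left) :=
  (I.obj.map b.left.op).hom t - (I.obj.map a.left.op).hom t

omit [Mono f] [IsAffine U.left] [IsAffine Y.left.left] [HasFiniteProducts (Over U)] in
lemma map_diff {W W' : Over U} (m : W' ⟶ W) (a b : W ⟶ Y) :
    (I.obj.map m.left.op).hom (diff Y t a b) = diff Y t (m ≫ a) (m ≫ b) := by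
  simp only [diff, map_sub, Over.comp_left, op_comp, Functor.map_comp]
  rfl

/-- The cocycle of a section whose differences come from `G_m`. -/
theorem exists_cocycle
    (ht : ∀ (W : Over U) (a b : W ⟶ Y), ∃ c, (f.hom.app (op W.left)).hom c = diff Y t a b) :
    ∃ u : Sec Y ⊗[Γ(U.left, ⊤)] Sec Y, IsUnit u ∧
      Hilbert90.p02 Γ(U.left, ⊤) (Sec Y) u =
        Hilbert90.p01 Γ(U.left, ⊤) (Sec Y) u * Hilbert90.p12 Γ(U.left, ⊤) (Sec Y) u ∧
      ∀ (W : Over U) (a b : W ⟶ Y) (c : (EtCoh.Gm X).obj.obj (op W.left)),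
        (f.hom.app (op W.left)).hom c = diff Y t a b →
          (gv c : Γ(W.left.left, ⊤)) = ev Y a b u := by
  let P := fun _ : Fin 2 => Y
  obtain ⟨c₀, hc₀⟩ := ht (∏ᶜ P) (Pi.π P 0) (Pi.π P 1)
  let v : Sec (∏ᶜ P) := (gv c₀ : Γ((∏ᶜ P).left.left, ⊤))
  let u : AmitsurAll.T Γ(U.left, ⊤) (Sec Y) 1 := qSec Y 1 (secMap (σ Y 1) v)
  have hu : Φ Y 1 u = v := right_inv Y 1 v
  have hval : ∀ (W : Over U) (a b : W ⟶ Y) (c : (EtCoh.Gm X).obj.obj (op W.left)),
      (f.hom.app (op W.left)).hom c = diff Y t a b → (gv c : Γ(W.left.left, ⊤)) = ev Y a b u := by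
    intro W a b c hc
    let m : W ⟶ ∏ᶜ P := Pi.lift ![a, b]
    have he : c = ((EtCoh.Gm X).obj.map m.left.op).hom c₀ := by
      apply SiteBase.sheaf_app_injective f W.left
      refine hc.trans ?_
      refine Eq.trans ?_ (NatTrans.naturality_apply f.hom m.left.op c₀).symm
      refine Eq.trans ?_ (congrArg (I.obj.map m.left.op).hom hc₀).symm
      rw [map_diff, Pi.lift_π, Pi.lift_π]
      rfl
    rw [ev_eq_Φ, hu, he]
    rfl
  refine ⟨u, ?_, ?_, hval⟩
  · exact IsUnit.map (qSec Y 1) (IsUnit.map (secMap (σ Y 1)) (show IsUnit v from (gv c₀).isUnit))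
  · let Q3 := fun _ : Fin 3 => Y
    have hinj : Function.Injective (Φ Y 2) := fun s t h =>
      (left_inv Y 2 s).symm.trans ((congrArg (fun z => qSec Y 2 (secMap (σ Y 2) z)) h).trans (left_inv Y 2 t))
    have key : ∀ (p : Sec Y ⊗[Γ(U.left, ⊤)] Sec Y →ₐ[Γ(U.left, ⊤)]
          Sec Y ⊗[Γ(U.left, ⊤)] (Sec Y ⊗[Γ(U.left, ⊤)] Sec Y)) (i j : Fin 3),
        (∀ x, p (x ⊗ₜ 1) = AmitsurAll.incl Γ(U.left, ⊤) (Sec Y) 2 i x) →
        (∀ x, p (1 ⊗ₜ x) = AmitsurAll.incl Γ(U.left, ⊤) (Sec Y) 2 j x) →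
        Φ Y 2 (p u) = ev Y (Pi.π Q3 i) (Pi.π Q3 j) u := by
      intro p i j hi hj
      have h : ((Φ Y 2).comp p : Sec Y ⊗[Γ(U.left, ⊤)] Sec Y →ₐ[Γ(U.left, ⊤)] Sec (∏ᶜ Q3)) =
          ev Y (Pi.π Q3 i) (Pi.π Q3 j) := by
        refine Algebra.TensorProduct.ext (AlgHom.ext fun x => ?_) (AlgHom.ext fun x => ?_)
        · show Φ Y 2 (p (x ⊗ₜ 1)) = ev Y _ _ (x ⊗ₜ 1)
          rw [hi, Φ_incl]
          simp [ev]
          rfl
        · show Φ Y 2 (p (1 ⊗ₜ x)) = ev Y _ _ (1 ⊗ₜ x)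
          rw [hj, Φ_incl]
          simp [ev]
          rfl
      exact DFunLike.congr_fun h u
    apply hinj
    rw [map_mul]
    rw [key (Hilbert90.p02 _ _) 0 2 (fun x => by simp; rfl) (fun x => by simp; rfl),
      key (Hilbert90.p01 _ _) 0 1 (fun x => by simp; rfl) (fun x => by simp; rfl),
      key (Hilbert90.p12 _ _) 1 2 (fun x => by simp; rfl) (fun x => by simp; rfl)]
    obtain ⟨c01, h01⟩ := ht _ (Pi.π Q3 0) (Pi.π Q3 1)
    obtain ⟨c12, h12⟩ := ht _ (Pi.π Q3 1) (Pi.π Q3 2)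
    obtain ⟨c02, h02⟩ := ht _ (Pi.π Q3 0) (Pi.π Q3 2)
    have e : c02 = c01 + c12 := by
      apply SiteBase.sheaf_app_injective f (∏ᶜ Q3).left
      rw [map_add, h01, h12, h02]
      simp only [diff]
      abel
    rw [← hval _ _ _ _ h02, ← hval _ _ _ _ h01, ← hval _ _ _ _ h12, e, gv_add, Units.val_mul]


end Groth.Agent.GmH1Lib.Cocycle
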