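import Groth.Agent.GmH1Lib.Cocycle
import Groth.Agent.EtFound.OpenSubterminal
import Groth.Agent.EtLC12.EtZarCompare
import Groth.Agent.AModX.Res

/-!
# Sections modulo `G_m` lift Zariski locally
-/

set_option autoImplicit false
set_option backward.isDefEq.respectTransparency false
set_option backward.isDefEq.respectTransparency.types false

universe u

open CategoryTheory CategoryTheory.Limits AlgebraicGeometry Opposite TensorProduct

namespace Groth.Agent.GmH1Lib

open Groth.Agent.EtFound Groth.Agent.DescLib Groth.Agent.EtLC12 Groth.Agent.EtLC12.GaAmitsur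

variable {X : Scheme.{u}}

/-- The map of an open to the final object. -/
noncomputable abbrev toTop (V : X.Opens) : (EtZar.zarToEt X).obj V ⟶ EtCoh.top X :=
  (topIsTerminal X).from _

omit X in
theorem isUnit_appTop_ι_basicOpen {T : Scheme.{u}} (F : Γ(T, ⊤)) :
    IsUnit ((T.basicOpen F).ι.appTop.hom F) := by
  rw [Scheme.Opens.ι_appTop]
  exact Groth.Agent.AModX.isUnit_resR _ F (le_of_eq (T.basicOpen F).ι_image_top)

variable {I Q : EtCoh.Ab X} (f : EtCoh.Gm X ⟶ I) (g : I ⟶ Q) (w : f ≫ g = 0)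
  (hS : (ShortComplex.mk f g w).ShortExact)

include hS in
theorem exists_preimage {W : X.Etale} (y : I.obj.obj (op W)) (hy : (g.hom.app (op W)).hom y = 0) :
    ∃ c, (f.hom.app (op W)).hom c = y := by
  haveI : Mono (ShortComplex.mk f g w).f := hS.mono_f
  exact (SiteBase.secExact_iff (ShortComplex.mk f g w) W).1 (hS.exact.map_of_mono_of_preservesKernel
      (sheafToPresheaf X.smallEtaleTopology AddCommGrpCat.{u + 1} ⋙
        (evaluation X.Etaleᵒᵖ AddCommGrpCat.{u + 1}).obj (op W)) inferInstance inferInstance) y hy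

include hS in
theorem exists_local_lift (q : Q.obj.obj (op (EtCoh.top X))) (x : X) :
    ∃ V : X.Opens, x ∈ V ∧ ∃ s : I.obj.obj (op ((EtZar.zarToEt X).obj V)),
      (g.hom.app _).hom s = (Q.obj.map (toTop V).op).hom q := by
  haveI : Mono f := hS.mono_f
  haveI : Epi g := hS.epi_g
  haveI : LocallySmall.{u + 1} X.Etale := ⟨fun _ _ => inferInstance⟩
  obtain ⟨V₀, hV₀, hxV₀, -⟩ :=
    exists_isAffineOpen_mem_and_subset (U := (⊤ : X.Opens)) (TopologicalSpace.Opens.mem_top x)
  let U : X.Etale := (EtZar.zarToEt X).obj V₀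
  haveI : IsAffine U.left := hV₀
  haveI : HasFiniteProducts (Over U) := hasFiniteProducts_of_has_binary_and_terminal
  let z := (Q.obj.map (toTop V₀).op).hom q
  have hloc : Presheaf.IsLocallySurjective X.smallEtaleTopology g.hom :=
    (Sheaf.isLocallySurjective_iff_epi' AddCommGrpCat.{u + 1} g).2 inferInstance
  obtain ⟨n, W, T, g', i, hT, hg, hR, hi, hcov, hdisj⟩ :=
    AffineCartan.exists_affine_refinement _ (hloc.imageSieve_mem (U := U) z)
  choose s hs using hR
  haveI := hi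
  obtain ⟨t, ht⟩ := (bijective_sections_of_disjoint I W i hcov hdisj).2 s
  have htg : (g.hom.app (op T)).hom t = (Q.obj.map g'.op).hom z := by
    refine (bijective_sections_of_disjoint Q W i hcov hdisj).1 (funext fun k => ?_)
    refine (NatTrans.naturality_apply g.hom (i k).op t).symm.trans ?_
    refine (congrArg _ (congrFun ht k)).trans ((hs k).trans ?_)
    rw [op_comp, Functor.map_comp]
    rfl
  let Y : Over U := Over.mk g'
  haveI : IsAffine Y.left.left := hT
  haveI : Surjective Y.hom.left := hg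
  haveI := faithfullyFlat_sec U Y
  have comb : ∀ {A B D : X.Etale} (γ : A ⟶ B) (δ : B ⟶ D) (r : Q.obj.obj (op D)),
      (Q.obj.map γ.op).hom ((Q.obj.map δ.op).hom r) = (Q.obj.map (γ ≫ δ).op).hom r := fun γ δ r => by
    rw [op_comp, Functor.map_comp]
    rfl
  have hker : ∀ (Z : Over U) (a b : Z ⟶ Y), ∃ c, (f.hom.app (op Z.left)).hom c = Cocycle.diff Y t a b := by
    intro Z a b
    apply exists_preimage f g w hS
    rw [Cocycle.diff, map_sub, sub_eq_zero]
    refine (NatTrans.naturality_apply g.hom b.left.op t).trans ?_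
    refine Eq.trans ?_ (NatTrans.naturality_apply g.hom a.left.op t).symm
    show (Q.obj.map b.left.op).hom ((g.hom.app (op T)).hom t) = (Q.obj.map a.left.op).hom ((g.hom.app (op T)).hom t)
    rw [htg]
    refine (comb b.left g' z).trans (Eq.trans ?_ (comb a.left g' z).symm)
    exact congrArg (fun e : Z.left ⟶ U => (Q.obj.map e.op).hom z) ((Over.w b).trans (Over.w a).symm)
  obtain ⟨u, hu, hc, hval⟩ := Cocycle.exists_cocycle f Y t hker
  let pt : U.left := ⟨x, hxV₀⟩
  obtain ⟨f₀, hf₀, m, b, hm, k, hmb⟩ := Hilbert90.exists_local u hu hc (U.left.toSpecΓ pt)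
  have hpt : pt ∈ U.left.basicOpen f₀ := by
    rw [← Scheme.toSpecΓ_preimage_basicOpen]
    exact hf₀
  let V : X.Opens := V₀.ι ''ᵁ U.left.basicOpen f₀
  have hxV : x ∈ V := ⟨pt, hpt, rfl⟩
  have hVle : V ≤ V₀ := V₀.ι_image_le _
  let mV : (EtZar.zarToEt X).obj V ⟶ U := (EtZar.zarToEt X).map (homOfLE hVle)
  let O : T.left.Opens := T.left.basicOpen (g'.left.appTop.hom f₀)
  have hO : ∀ y, y ∈ O ↔ g'.left y ∈ U.left.basicOpen f₀ := fun y => by
    show y ∈ T.left.basicOpen _ ↔ _
    rw [← Scheme.preimage_basicOpen_top]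
    rfl
  haveI : AlgebraicGeometry.Etale T.hom := T.prop
  let Z : X.Etale := Scheme.Etale.mk (O.ι ≫ T.hom)
  let j : Z ⟶ T := MorphismProperty.Over.homMk O.ι rfl trivial
  have hhom : ∀ y : Z.left, Z.hom y = V₀.ι (g'.left (O.ι y)) := fun y =>
    (apply_hom (j ≫ g') y).symm
  obtain ⟨h⟩ : Nonempty (Z ⟶ (EtZar.zarToEt X).obj V) := (nonempty_hom_ofOpen_iff V Z).2 fun y =>
    ⟨g'.left (O.ι y), (hO _).1 y.2, (hhom y).symm⟩
  have hsub : ∀ {A : X.Etale} (a b : A ⟶ U), a = b := fun a b =>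
    @Subsingleton.elim _ (subsingleton_hom_ofOpen V₀ _) a b
  have hhcov : ∀ v : ((EtZar.zarToEt X).obj V).left, ∃ (_ : PUnit.{u + 2}) (y : Z.left), h.left y = v := by
    intro v
    obtain ⟨y, hy⟩ := hg.1 (mV.left v)
    have hy' : (mV.left v : U.left) ∈ U.left.basicOpen f₀ := by
      obtain ⟨v', hv', e⟩ := v.2
      have : v' = mV.left v := Subtype.ext (e.trans (Scheme.homOfLE_apply hVle v).symm)
      exact this ▸ hv'
    refine ⟨⟨⟩, ⟨y, (hO y).2 (hy.symm ▸ hy')⟩, ?_⟩
    apply Subtype.ext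
    refine (apply_hom h _).trans ((hhom _).trans ?_)
    show V₀.ι (g'.left y) = _
    rw [hy]
    exact Scheme.homOfLE_apply hVle v
  have hmu : IsUnit (O.ι.appTop.hom m) := by
    have h1 : IsUnit (O.ι.appTop.hom (algebraMap Γ(U.left, ⊤) (Sec Y) f₀ ^ k)) := by
      rw [map_pow]
      exact (isUnit_appTop_ι_basicOpen (g'.left.appTop.hom f₀)).pow _
    rw [← hmb, map_mul] at h1
    exact isUnit_of_mul_isUnit_left h1
  let μ : (EtCoh.Gm X).obj.obj (op Z) := gmk hmu.unit
  let t' : I.obj.obj (op Z) := (I.obj.map j.op).hom t + (f.hom.app (op Z)).hom μ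
  have hcompat : Presieve.Arrows.Compatible (I.obj ⋙ forget AddCommGrpCat.{u + 1})
      (fun _ : PUnit.{u + 2} => h) (fun _ => t') := by
    intro _ _ A α β hαβ
    let W' : Over U := Over.mk (α ≫ j ≫ g')
    let a : W' ⟶ Y := Over.homMk (α ≫ j) (Category.assoc _ _ _)
    let b' : W' ⟶ Y := Over.homMk (β ≫ j) (hsub _ _)
    obtain ⟨c, hc'⟩ : ∃ c : (EtCoh.Gm X).obj.obj (op A), (f.hom.app (op A)).hom c = Cocycle.diff Y t a b' :=
      hker W' a b'
    have hcv := hval W' a b' c hc'
    have key : ((EtCoh.Gm X).obj.map α.op).hom μ = c + ((EtCoh.Gm X).obj.map β.op).hom μ := by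
      apply gv_ext
      rw [gv_add, Units.val_mul, hcv, gv_map, gv_map]
      have h2 := congrArg (Cocycle.ev Y a b') hm
      simp only [map_mul, Cocycle.ev, Algebra.TensorProduct.productMap_apply_tmul, map_one, mul_one, one_mul] at h2
      have e1 : ∀ γ : A ⟶ Z, γ.left.appTop.hom (gv μ : Γ(Z.left, ⊤)) = (γ ≫ j).left.appTop.hom m := fun γ =>
        (congrArg (fun φ : Γ(T.left, ⊤) ⟶ Γ(A.left, ⊤) => φ.hom m)
          (Scheme.Hom.comp_appTop γ.left j.left)).symm
      rw [e1 α, e1 β]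
      exact h2
    show (I.obj.map α.op).hom t' = (I.obj.map β.op).hom t'
    have hd : (I.obj.map (β ≫ j).op).hom t - (I.obj.map (α ≫ j).op).hom t = (f.hom.app (op A)).hom c := hc'.symm
    have e2 : ∀ γ : A ⟶ Z, (I.obj.map γ.op).hom t' =
        (I.obj.map (γ ≫ j).op).hom t + (f.hom.app (op A)).hom (((EtCoh.Gm X).obj.map γ.op).hom μ) := fun γ => by
      rw [map_add, op_comp, Functor.map_comp]
      refine congrArg (HAdd.hAdd _) ?_
      exact (NatTrans.naturality_apply f.hom γ.op μ).symm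
    rw [e2, e2, key, map_add, ← hd]
    abel
  obtain ⟨y, hy, -⟩ := (Presieve.isSheafFor_arrows_iff _ _).1
    (isSheafFor_of_covers I (fun _ : PUnit.{u + 2} => Z) (fun _ => h) hhcov) (fun _ => t') hcompat
  refine ⟨V, hxV, y, ?_⟩
  refine (isSheafFor_of_covers Q (fun _ : PUnit.{u + 2} => Z) (fun _ => h) hhcov).isSeparatedFor.ext
    fun {A} a ha => ?_
  obtain ⟨i'⟩ := ha
  show (Q.obj.map h.op).hom ((g.hom.app _).hom y) = (Q.obj.map h.op).hom ((Q.obj.map (toTop V).op).hom q)
  refine (NatTrans.naturality_apply g.hom h.op y).symm.trans ?_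
  refine (congrArg (g.hom.app (op Z)).hom (hy ⟨⟩)).trans ?_
  show (g.hom.app (op Z)).hom ((I.obj.map j.op).hom t + (f.hom.app (op Z)).hom μ) = _
  rw [map_add]
  have h0 : (g.hom.app (op Z)).hom ((f.hom.app (op Z)).hom μ) = 0 :=
    congrArg (fun φ : EtCoh.Gm X ⟶ Q => (φ.hom.app (op Z)).hom μ) w
  rw [h0, add_zero]
  refine (NatTrans.naturality_apply g.hom j.op t).trans ?_
  show (Q.obj.map j.op).hom ((g.hom.app (op T)).hom t) = _
  rw [htg]
  refine (comb j g' z).trans ((comb _ (toTop V₀) q).trans (Eq.trans ?_ (comb h (toTop V) q).symm))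
  exact congrArg (fun e : Z ⟶ EtCoh.top X => (Q.obj.map e.op).hom q) ((topIsTerminal X).hom_ext _ _)

end Groth.Agent.GmH1Lib
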